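import Cfsg.Agent.SchurCert.PCGroup

set_option autoImplicit false

/-!
# Collection in a central extension by an abelian group

The variant of `SchurBound.LiftQ` with tails in any commutative group (owner: helper57, after helper51's code).
-/

namespace Cfsg.Agent.TwE6Two

open Cfsg.Agent.SchurCert

variable {Γ : Type*} [Group Γ]

/-- A central embedding of the tails and lifts satisfying the relations up to tails. -/
structure LiftA (P : PC) (A : Type*) [CommGroup A] (Γ : Type*) [Group Γ] where
  /-- The lifts of the generators. -/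
  s : ℕ → Γ
  /-- The central embedding. -/
  zp : A →* Γ
  zp_comm : ∀ a x, zp a * x = x * zp a
  /-- The values of the tails. -/
  τ : ℕ → A
  pow_rel : ∀ j < P.n, s j ^ P.p = evalW s (P.powWord j) * zp (τ (PC.pVar j))
  cj_rel : ∀ j < P.n, ∀ i < j, s j * s i = evalW s (P.cjWord j i) * zp (τ (PC.cVar j i)) * s j

namespace LiftA

variable {P : PC} {A : Type*} [CommGroup A] (L : LiftA P A Γ)

/-- The value of a tail. -/
def T (t : List ℕ) : Γ := L.zp (t.map L.τ).prod

theorem T_nil : L.T [] = 1 := by simp [T]

theorem T_append (a b : List ℕ) : L.T (a ++ b) = L.T a * L.T b := by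
  simp [T]

theorem T_cons (a : ℕ) (b : List ℕ) : L.T (a :: b) = L.zp (L.τ a) * L.T b := by
  simp [T]

theorem T_comm (t : List ℕ) (x : Γ) : L.T t * x = x * L.T t := L.zp_comm _ _

theorem across1_sound {k : ℕ} (hk : k < P.n) :
    ∀ W : List ℕ, (∀ x ∈ W, x < k) →
      L.s k * evalW L.s W = evalW L.s (P.across1 k W).1 * L.T (P.across1 k W).2 * L.s k := by
  intro W
  induction W with
  | nil => intro _; simp [PC.across1, L.T_nil]
  | cons i W ih =>
    intro h
    have ih' := ih fun x hx => h x (List.mem_cons_of_mem _ hx)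
    simp only [PC.across1, List.flatMap_cons, List.map_cons, evalW_cons, evalW_append,
      L.T_cons] at ih' ⊢
    rw [← mul_assoc, L.cj_rel k hk i (h i List.mem_cons_self), mul_assoc _ (L.s k), ih']
    simp only [mul_assoc]
    congr 1
    rw [← mul_assoc, L.zp_comm, mul_assoc]

theorem fold_sound {k : ℕ} {step : List ℕ → ℕ → List ℕ × List ℕ}
    (h : ∀ v i, i < k → evalV L.s k v * L.s i = evalV L.s k (step v i).1 * L.T (step v i).2) :
    ∀ W v, (∀ x ∈ W, x < k) → evalV L.s k v * evalW L.s W =
      evalV L.s k (PC.fold step W v).1 * L.T (PC.fold step W v).2 := by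
  intro W
  induction W with
  | nil => intro v _; simp [PC.fold, L.T_nil]
  | cons i W ih =>
    intro v hW
    simp only [PC.fold, evalW_cons, L.T_append]
    rw [← mul_assoc, h v i (hW i List.mem_cons_self), mul_assoc, L.T_comm, ← mul_assoc,
      ih _ fun x hx => hW x (List.mem_cons_of_mem _ hx), mul_assoc, ← L.T_comm]

variable (hwf : P.wf = true)
include hwf

theorem across_sound {k : ℕ} (hk : k < P.n) :
    ∀ (e : ℕ) (W : List ℕ), (∀ x ∈ W, x < k) →
      L.s k ^ e * evalW L.s W = evalW L.s (P.across k e W).1 * L.T (P.across k e W).2 * L.s k ^ e ∧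
        ∀ x ∈ (P.across k e W).1, x < k := by
  intro e
  induction e with
  | zero => intro W hW; exact ⟨by simp [PC.across, L.T_nil], hW⟩
  | succ e ih =>
    intro W hW
    have hlt : ∀ x ∈ (P.across1 k W).1, x < k := by
      intro x hx
      simp only [PC.across1, List.mem_flatMap] at hx
      obtain ⟨i, hi, hx⟩ := hx
      exact PC.wf_cjWord hwf hk (hW i hi) x hx
    obtain ⟨h1, h2⟩ := ih _ hlt
    refine ⟨?_, h2⟩
    simp only [PC.across, L.T_append]
    calc L.s k ^ (e + 1) * evalW L.s W = L.s k ^ e * (L.s k * evalW L.s W) := by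
          rw [pow_succ, mul_assoc]
      _ = L.s k ^ e * (evalW L.s (P.across1 k W).1 * L.T (P.across1 k W).2 * L.s k) := by
          rw [L.across1_sound hk W hW]
      _ = (L.s k ^ e * evalW L.s (P.across1 k W).1) * L.T (P.across1 k W).2 * L.s k := by
          simp only [mul_assoc]
      _ = _ := by
          rw [h1, mul_assoc _ (L.s k ^ e), ← L.T_comm (P.across1 k W).2 (L.s k ^ e), pow_succ]
          simp only [← mul_assoc]
          rw [mul_assoc _ (L.T (P.across k e (P.across1 k W).1).2) (L.T (P.across1 k W).2),
            L.T_comm (P.across k e (P.across1 k W).1).2 (L.T (P.across1 k W).2), ← mul_assoc]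

theorem mg_sound : ∀ k, k ≤ P.n → ∀ v i, i < k →
    evalV L.s k v * L.s i = evalV L.s k (P.mg k v i).1 * L.T (P.mg k v i).2 := by
  intro k
  induction k with
  | zero => intro _ v i hi; omega
  | succ k ih =>
    intro hk v i hi
    have hk' : k < P.n := hk
    have hfold := L.fold_sound (ih hk'.le)
    by_cases hik : i = k
    · subst hik
      by_cases he : v.headD 0 + 1 = P.p
      · simp only [PC.mg, if_true, he, evalV, List.tail_cons, List.headD_cons, pow_zero, mul_one,
          L.T_cons]
        rw [mul_assoc, ← pow_succ, he, L.pow_rel i hk', ← mul_assoc,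
          hfold _ _ (PC.wf_powWord hwf hk'), mul_assoc, L.zp_comm]
      · simp only [PC.mg, if_true, he, if_false, evalV, List.tail_cons, List.headD_cons, L.T_nil,
          mul_one]
        rw [pow_succ, mul_assoc]
    · have hik' : i < k := by omega
      obtain ⟨h1, h2⟩ := L.across_sound hwf hk' (v.headD 0) [i] (by simpa using hik')
      simp only [PC.mg, if_neg hik, evalV, List.tail_cons, List.headD_cons, L.T_append]
      rw [evalW_cons, evalW_nil, mul_one] at h1
      rw [mul_assoc, h1, ← mul_assoc, ← mul_assoc, hfold _ _ h2]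
      simp only [mul_assoc]
      congr 1
      rw [← mul_assoc (L.T _) (L.T _), L.T_comm (PC.fold _ _ _).2 (L.T _), ← L.T_append, L.T_comm]

theorem collect_sound (W : List ℕ) (hW : ∀ x ∈ W, x < P.n) :
    evalW L.s W = evalV L.s P.n (P.collect W).1 * L.T (P.collect W).2 := by
  have h := L.fold_sound (L.mg_sound hwf P.n le_rfl) W P.zero hW
  rwa [PC.zero, evalV_replicate_zero, one_mul] at h

end LiftA


end Cfsg.Agent.TwE6Two
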